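import Cfsg.Agent.Cit.Nil.CompR.TPm_m3
import Cfsg.Agent.Cit.Nil.CompR.BThLift_m3
import Cfsg.Agent.Prune
set_option linter.all false
prune_inst 0x7f00000000000000000000000000000000000000000000000000000000000000000000000000000000000000000000000000000000000000000000000000000000000000000000000000000000000000003fffffffffffffffffffffffffffbeffbdffffffff

/-!
# S1309 (n5): the bridge from `TStat` for `C(e)` to statements in `G`

`ThreeIn H K₁` : `SL(2,3)` over `K₁` in `H`.

* `bridge` : from `TStat (restr Om C(e))`;
* `bridge_ih` : from the field `ih` of `SCW`;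
* `tpr_of` : `TPr Om` from `SCW`, `O(C(e)) = 1` for all involutions `e`, and no member of `C(e)` has `ThreeIn`.
-/

set_option autoImplicit false
set_option linter.style.haveILetI false
set_option linter.unusedSectionVars false

namespace Cfsg.Agent.Cit.Nil.CompFour

open Subgroup Cfsg Cfsg.Agent.Cit
open Cfsg.Agent.Cit.Nil.IndDefs
open Cfsg.Agent.Cit.Nil.CompR (zz_subOf cm_subOf_iff restr_t0)

universe u

variable {G : Type u} [Group G] [Finite G] {Om : Set (Subgroup G)} {K L M : Subgroup G} {e : G}

theorem restr_of_comp_OmC (h : L ∈ comp (OmC Om e) K) :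
    L.subgroupOf (centralizer {e}) ∈ comp (restr Om (centralizer {e})) (K.subgroupOf (centralizer {e})) := by
  have h1 : ∀ L, Relation.ReflTransGen (Adj (OmC Om e)) K L →
      Relation.ReflTransGen (Adj (restr Om (centralizer {e}))) (K.subgroupOf (centralizer {e}))
        (L.subgroupOf (centralizer {e})) := by
    intro L hL
    induction hL with
    | refl => exact Relation.ReflTransGen.refl
    | @tail b c _ hbc ih =>
      refine Relation.ReflTransGen.tail ih
        ⟨subgroupOf_mem_restr hbc.1.1 hbc.1.2, subgroupOf_mem_restr hbc.2.1.1 hbc.2.1.2, fun h3 => hbc.2.2 ?_⟩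
      exact (cm_subOf_iff hbc.1.2 hbc.2.1.2).1 h3
  exact h1 L h

end Cfsg.Agent.Cit.Nil.CompFour
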