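import Cfsg.Agent.Cit.Nil.RFour.Gen_m3
import Cfsg.Agent.Cit.Nil.RI.Closed_m3
import Cfsg.Agent.Cit.Nil.LO.FormQ_m3
import Cfsg.Agent.FastGrp
import Cfsg.Agent.Prune
set_option linter.all false

-- part: Cit/Nil/CompFour/Count
section
set_option linter.all false
open scoped Cfsg.Agent.FastGrp

/-!
# S1309, `r = 4` with type I pairs: (C1) of section 4 of `blueprints/R18-6b-n5-helper449.md` (helper320)

`CntD Om M Sig` : the world for the count:
* `sig` (3.3): `Z ∩ M ⊆ Sig`;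
* `p1` (3.4): `x ∈ Sig`, `g x g⁻¹ ∈ Sig` implies `g ∈ M`;
* `lemC` (LEMMA C): `u, v ∈ Sig` a C-pair: `C(u v) ≤ M`.

**`CntD.mem`** (C1): `S ≤ M` a Sylow 2-subgroup of `G`, `t t = 1`, `C(t) ≤ M`: `g t g⁻¹ ∈ M` implies `g ∈ M`.
-/

set_option autoImplicit false
set_option linter.style.haveILetI false
set_option linter.unusedSectionVars false

namespace Cfsg.Agent.Cit.Nil.CompFour

open Subgroup Cfsg Cfsg.Agent.Cit

open RG (WR CP Ov Cn)
open ROne.Strong (exists_cj_le)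
open RI (CS CS_zz CS_conj CS_cp)

variable {G : Type*} [Group G]

/-- the action by conjugation on an invariant set -/
def actD (M : Subgroup G) (X : Set G) (hX : ∀ g ∈ M, ∀ x ∈ X, g * x * g⁻¹ ∈ X) : M →* Equiv.Perm X where
  toFun g :=
    { toFun := fun x => ⟨g * x * (g : G)⁻¹, hX g g.2 x x.2⟩
      invFun := fun x => ⟨(g : G)⁻¹ * x * g, by
        have h1 := hX (g : G)⁻¹ (inv_mem g.2) x x.2
        rwa [inv_inv] at h1⟩
      left_inv := fun x => Subtype.ext (by change (g : G)⁻¹ * (g * x * (g : G)⁻¹) * g = x; group)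
      right_inv := fun x => Subtype.ext (by change (g : G) * ((g : G)⁻¹ * x * g) * (g : G)⁻¹ = x; group) }
  map_one' := Equiv.ext fun x => Subtype.ext (by change (1 : G) * x * (1 : G)⁻¹ = x; group)
  map_mul' g h := Equiv.ext fun x => Subtype.ext (by
    change ((g : G) * h) * x * ((g : G) * h)⁻¹ = g * (h * x * (h : G)⁻¹) * (g : G)⁻¹
    group)

/-- see the head of the file -/
structure CntD (Om : Set (Subgroup G)) (M : Subgroup G) (Sig : Set G) : Prop where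
  h : WR Om
  sig : ∀ x ∈ RG.ZZ Om, x ∈ M → x ∈ Sig
  p1 : ∀ x ∈ Sig, ∀ g : G, g * x * g⁻¹ ∈ Sig → g ∈ M
  lemC : ∀ u ∈ Sig, ∀ v ∈ Sig, CP Om u v → ∀ g : G, g * (u * v) = u * v * g → g ∈ M

/-- some member lies in a given Sylow 2-subgroup -/
theorem CS_nonempty [Finite G] {Om : Set (Subgroup G)} (h : WR Om) (hne : Om.Nonempty)
    (S : Sylow 2 G) : (CS Om (S : Subgroup G)).Nonempty := by
  obtain ⟨K, hK⟩ := hne
  obtain ⟨g, hg⟩ := exists_le_cj S (h.two hK)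
  refine ⟨zz (cj g⁻¹ K), cj g⁻¹ K, ⟨h.conj K hK _, rfl⟩, ?_⟩
  intro x hx
  rw [mem_cj, inv_inv] at hx
  have h1 := hg hx
  rw [mem_cj] at h1
  have h2 : g⁻¹ * (g * x * g⁻¹) * g = x := by group
  rwa [h2] at h1

namespace CntD

variable [Finite G] {Om : Set (Subgroup G)} {M : Subgroup G} {Sig : Set G} (c : CntD Om M Sig)

include c

/-- **(C1)** for `b ∈ S` -/
theorem mem_S (S : Sylow 2 G) (hSM : (S : Subgroup G) ≤ M) (hne : Om.Nonempty) {t g : G} (htt : t * t = 1)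
    (ht : ∀ x, x * t = t * x → x ∈ M) (hg : g * t * g⁻¹ ∈ (S : Subgroup G)) : g ∈ M := by
  classical
  haveI : Fact (Nat.Prime 2) := ⟨Nat.prime_two⟩
  have h := c.h
  by_contra hgM
  obtain ⟨b, hb⟩ : ∃ b, b = g * t * g⁻¹ := ⟨_, rfl⟩
  rw [← hb] at hg
  have hbb : b * b = 1 := by
    have h1 : b * b = g * (t * t) * g⁻¹ := by rw [hb]; group
    rw [h1, htt, mul_one, mul_inv_cancel]
  have hb1 : b⁻¹ = b := inv_eq_of_mul_eq_one_right hbb
  -- `C(b) ≤ g M g⁻¹`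
  have hCb : ∀ x, x * b = b * x → g⁻¹ * x * g ∈ M := by
    intro x hx
    refine ht _ ?_
    have h1 : t = g⁻¹ * b * g := by rw [hb]; group
    rw [h1]
    calc g⁻¹ * x * g * (g⁻¹ * b * g) = g⁻¹ * (x * b) * g := by group
      _ = g⁻¹ * (b * x) * g := by rw [hx]
      _ = _ := by group
  -- `CS(S)`
  obtain ⟨D, hD⟩ : ∃ D, D = CS Om (S : Subgroup G) := ⟨_, rfl⟩
  have hDne : D.Nonempty := by rw [hD]; exact CS_nonempty h hne S
  have hDz : ∀ z ∈ D, z ∈ RG.ZZ Om := fun z hz => by rw [hD] at hz; exact CS_zz hz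
  have hDS : ∀ z ∈ D, z ∈ (S : Subgroup G) := fun z hz => by
    rw [hD] at hz
    obtain ⟨K, hK, hKS⟩ := hz
    exact hKS (h.Ov_mem hK)
  have hDsig : ∀ z ∈ D, z ∈ Sig := fun z hz => c.sig z (hDz z hz) (hSM (hDS z hz))
  have hDc : ∀ s ∈ (S : Subgroup G), ∀ z ∈ D, s * z * s⁻¹ ∈ D := fun s hs z hz => by
    rw [hD] at hz ⊢; exact CS_conj h hz hs
  have hDcp : ∀ z ∈ D, ∀ u ∈ D, z ≠ u → CP Om z u := fun z hz u hu hzu => by
    rw [hD] at hz hu; exact CS_cp h S.isPGroup' hz hu hzu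
  -- `b` moves all `z`
  have hmove : ∀ z ∈ D, b * z * b⁻¹ ≠ z := by
    intro z hz h1
    have h2 : z * b = b * z := by
      conv_lhs => rw [← h1]
      group
    have h3 := hCb z h2
    have h4 : g⁻¹ * z * g ∈ RG.ZZ Om := by
      have h5 := h.zz_cj (hDz z hz) g⁻¹
      rwa [inv_inv] at h5
    refine hgM (c.p1 _ (c.sig _ h4 h3) g ?_)
    have h5 : g * (g⁻¹ * z * g) * g⁻¹ = z := by group
    rw [h5]
    exact hDsig z hz
  -- the Sylow subgroup of `g M g⁻¹`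
  obtain ⟨T, hT⟩ : ∃ T : Subgroup G, T = (S : Subgroup G) ⊓ centralizer {b} := ⟨_, rfl⟩
  have hT2 : IsPGroup 2 T := by rw [hT]; exact S.isPGroup'.to_le inf_le_left
  have hTm : ∀ x, x ∈ T ↔ x ∈ (S : Subgroup G) ∧ x * b = b * x := by
    intro x
    rw [hT, Subgroup.mem_inf, mem_centralizer_singleton_iff]
  have hRM : cj g⁻¹ T ≤ M := by
    intro x hx
    rw [mem_cj, inv_inv] at hx
    have h1 := hCb _ ((hTm _).1 hx).2
    have h2 : g⁻¹ * (g * x * g⁻¹) * g = x := by group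
    rwa [h2] at h1
  obtain ⟨m, hm, hmS⟩ := exists_cj_le S hSM (R := cj g⁻¹ T) (hT2.map _) hRM
  obtain ⟨w, hw⟩ : ∃ w, w = m * g⁻¹ := ⟨_, rfl⟩
  have hwM : w ∉ M := by
    intro h1
    have h2 : g = w⁻¹ * m := by rw [hw]; group
    exact hgM (h2 ▸ mul_mem (inv_mem h1) hm)
  have hwT : ∀ s ∈ T, w * s * w⁻¹ ∈ (S : Subgroup G) := by
    intro s hs
    have h1 : g⁻¹ * s * g⁻¹⁻¹ ∈ cj g⁻¹ T := conj_mem_cj hs
    have h2 := hmS (conj_mem_cj (g := m) h1)
    have h3 : w * s * w⁻¹ = m * (g⁻¹ * s * g⁻¹⁻¹) * m⁻¹ := by rw [hw]; group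
    rw [h3]
    exact h2
  -- a member over each `z ∈ D`
  have hex : ∀ z : D, ∃ K : Subgroup G, K ∈ Ov Om (z : G) ∧ K ≤ S := by
    rintro ⟨z, hz⟩
    rw [hD] at hz
    exact hz
  choose K hK using hex
  -- the action
  let ρ₀ := actD (S : Subgroup G) D hDc
  let f : T →* (S : Subgroup G) :=
    { toFun := fun s => ⟨w * s * w⁻¹, hwT s s.2⟩
      map_one' := Subtype.ext (by change w * (1 : G) * w⁻¹ = 1; group)
      map_mul' := fun p q => Subtype.ext (by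
        change w * ((p : G) * q) * w⁻¹ = w * p * w⁻¹ * (w * q * w⁻¹)
        group) }
  haveI : Nonempty D := hDne.to_subtype
  let σ : D → D := fun z => ⟨b * z * b⁻¹, hDc b hg z z.2⟩
  have hσ : ∀ z : D, (σ z : G) = b * z * b⁻¹ := fun _ => rfl
  have hbK : ∀ z : D, cj b (K z) ∈ Ov Om (σ z : G) := fun z => h.Ov_cj (hK z).1 b
  refine Cn.false (Om := Om) (T := T) (b := b) (σ := σ) (K := K) (ρ := ρ₀.comp f)
    { h := h
      mem := fun i => (hK i).1.1
      inv := fun i => Subtype.ext (by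
        rw [hσ, hσ]
        have h1 : b * (b * (i : G) * b⁻¹) * b⁻¹ = (b * b) * i * (b * b)⁻¹ := by group
        rw [h1, hbb, one_mul, inv_one, mul_one])
      ne := fun i h1 => hmove i i.2 (congrArg Subtype.val h1)
      c0 := ?_, c1 := ?_, c2 := ?_
      mv := fun i => by
        rw [(hK i).1.2]
        exact hmove i i.2
      le := ?_, card := rfl, fx := ?_ }
  · intro i x hx y hy
    exact (hDcp _ i.2 _ (σ i).2 (hmove i i.2).symm).2 _ (hK i).1 _ (hbK i) x hx _ (conj_mem_cj hy)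
  · intro i j hij _ x hx y hy
    exact (hDcp _ i.2 _ j.2 (fun h1 => hij (Subtype.ext h1))).2 _ (hK i).1 _ (hK j).1 x hx y hy
  · intro i j _ hij x hx y hy
    refine (hDcp _ i.2 _ (σ j).2 ?_).2 _ (hK i).1 _ (hbK j) x hx _ (conj_mem_cj hy)
    intro h1
    apply hij
    refine Subtype.ext ?_
    rw [hσ, h1, hσ]
    have h2 : b * (b * (j : G) * b⁻¹) * b⁻¹ = (b * b) * j * (b * b)⁻¹ := by group
    rw [h2, hbb, one_mul, inv_one, mul_one]
  · intro i k hk
    rw [hTm]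
    have hkS : k ∈ (S : Subgroup G) := (hK i).2 hk
    refine ⟨mul_mem hkS (mul_mem (mul_mem hg hkS) (inv_mem hg)), ?_⟩
    have h1 := (hDcp _ i.2 _ (σ i).2 (hmove i i.2).symm).2 _ (hK i).1 _ (hbK i) k hk _ (conj_mem_cj hk)
    calc k * (b * k * b⁻¹) * b = (b * k * b⁻¹) * k * b := by rw [h1]
      _ = b * (k * (b * k * b⁻¹)) := by rw [hb1]; simp only [mul_assoc]
  · intro x i hx hρ
    rw [(hK i).1.2] at hx
    obtain ⟨z, hz⟩ := hDne
    -- `w x w⁻¹` commutes with `z`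
    have h1 : w * x * w⁻¹ * z * (w * x * w⁻¹)⁻¹ = z := by
      have h2 := congrArg (fun τ : Equiv.Perm D => ((τ ⟨z, hz⟩ : D) : G)) hρ
      exact h2
    have h2 : w⁻¹ * z * w ∈ M := by
      refine c.lemC _ (hDsig _ i.2) _ (hDsig _ (σ i).2) (hDcp _ i.2 _ (σ i).2 (hmove i i.2).symm) _ ?_
      have h3 : w * x * w⁻¹ * z = z * (w * x * w⁻¹) := by
        rwa [mul_inv_eq_iff_eq_mul] at h1
      rw [hσ, ← hx]
      calc w⁻¹ * z * w * x = w⁻¹ * (z * (w * x * w⁻¹)) * w := by group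
        _ = w⁻¹ * (w * x * w⁻¹ * z) * w := by rw [h3]
        _ = _ := by group
    have h3 : w⁻¹ * z * w ∈ RG.ZZ Om := by
      have h5 := h.zz_cj (hDz z hz) w⁻¹
      rwa [inv_inv] at h5
    refine hwM (c.p1 _ (c.sig _ h3 h2) w ?_)
    have h5 : w * (w⁻¹ * z * w) * w⁻¹ = z := by group
    rw [h5]
    exact hDsig z hz

/-- **(C1)** -/
theorem mem (S : Sylow 2 G) (hSM : (S : Subgroup G) ≤ M) (hne : Om.Nonempty) {t g : G} (htt : t * t = 1)
    (ht : ∀ x, x * t = t * x → x ∈ M) (hg : g * t * g⁻¹ ∈ M) : g ∈ M := by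
  haveI : Fact (Nat.Prime 2) := ⟨Nat.prime_two⟩
  have h2 : IsPGroup 2 (zpowers (g * t * g⁻¹)) := by
    by_cases h1 : g * t * g⁻¹ = 1
    · rw [h1, zpowers_one_eq_bot]; exact IsPGroup.of_bot
    refine IsPGroup.of_card (n := 1) ?_
    rw [Nat.card_zpowers, pow_one]
    refine orderOf_eq_prime ?_ h1
    have h3 : (g * t * g⁻¹) ^ 2 = g * (t * t) * g⁻¹ := by rw [pow_two]; group
    rw [h3, htt, mul_one, mul_inv_cancel]
  obtain ⟨m, hm, hmS⟩ := exists_cj_le S hSM (R := zpowers (g * t * g⁻¹)) h2 (zpowers_le.2 hg)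
  have h3 := hmS (conj_mem_cj (g := m) (mem_zpowers (g * t * g⁻¹)))
  have h4 : m * (g * t * g⁻¹) * m⁻¹ = (m * g) * t * (m * g)⁻¹ := by group
  rw [h4] at h3
  have h5 := c.mem_S S hSM hne htt ht h3
  have h6 : g = m⁻¹ * (m * g) := by group
  rw [h6]
  exact mul_mem (inv_mem hm) h5

end CntD

end Cfsg.Agent.Cit.Nil.CompFour
end

-- part: Cit/Nil/ROne/TwinA
section
set_option linter.all false
open scoped Cfsg.Agent.FastGrp

/-!
# (6b), `r = 1`, section 5: twins, (5.1) - (5.5)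

* `IA K g u` : `g` acts on `K u` as an inner automorphism;
* `RR K z u` : (R)(z,u): the elements of `C(K z) ∩ C(u)` act on `K u` as inner automorphisms;
* `ClS Z K` : CLAIM S (section 4);
* `no_swap`, `comm_of_RR` : (5.1); `CP_of_RR`, `cl_eq_of_RR` : (5.2); `tw_of_RR` : (5.3); `CS_of_tw` : `[z] ≤ C_S`;
* `ia_of_NC` : (2.3); `RR_of_swap` : (5.5); `tw_of_swap` : `u' ∈ [u]` for a C-swap `(u, v)`, `u' = v u v⁻¹`.
-/

set_option autoImplicit false
set_option linter.style.haveILetI false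
set_option linter.unusedSectionVars false

namespace Cfsg.Agent.Cit.Nil.ROne

open Subgroup Cfsg Cit QuaternionGroup

variable {G : Type*} [Group G]

/-- `g` acts on `K u` as an inner automorphism -/
def IA (K : G → Subgroup G) (g u : G) : Prop := ∃ l ∈ K u, ∀ x ∈ K u, g * x * g⁻¹ = l * x * l⁻¹

/-- (R)(z,u) -/
def RR (K : G → Subgroup G) (z u : G) : Prop := ∀ g, Cen K g z → g * u = u * g → IA K g u

/-- CLAIM S -/
def ClS (Z : Set G) (K : G → Subgroup G) : Prop :=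
  ∀ u ∈ Z, ∀ v ∈ Z, CSw K u v → ∀ f : ↥(K u ⊔ K v) →* ℤˣ, ∀ (x : G) (hx : x ∈ K u), f ⟨x, mem_sup_left hx⟩ = 1

namespace W

variable {Z : Set G} {K : G → Subgroup G} {z u v g x y b k : G}

section loc

variable (h : W Z K)
include h

theorem ia_pow (hu : u ∈ Z) (hI : IA K g u) (hy : y ∈ K u) (hyy : y * y = u) : g * y * g⁻¹ = y ∨ g * y * g⁻¹ = y⁻¹ := by
  obtain ⟨l, hl, hl'⟩ := hI
  rw [hl' y hy]
  have h1 : ∀ l y : QEight.Q, y * y = a 2 → l * y * l⁻¹ = y ∨ l * y * l⁻¹ = y⁻¹ := by decide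
  have h2 : h.e hu ⟨y, hy⟩ * h.e hu ⟨y, hy⟩ = a 2 := by
    rw [← h.e_z hu, ← map_mul]
    exact congrArg (h.e hu) (Subtype.ext hyy)
  have h3 := h1 (h.e hu ⟨l, hl⟩) _ h2
  rw [← map_inv, ← map_mul, ← map_mul, ← map_inv] at h3
  rcases h3 with h3 | h3
  · exact Or.inl (congrArg Subtype.val ((h.e hu).injective h3))
  · exact Or.inr (congrArg Subtype.val ((h.e hu).injective h3))

/-- transpositions are not inner -/
theorem not_ia_of_trn (hu : u ∈ Z) {a : G} (hT : Trn K g u a) : ¬ IA K g u := by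
  intro hI
  have h1 : ∀ y : QEight.Q, ∃ b : QEight.Q, b * b = QuaternionGroup.a 2 ∧ b ≠ y ∧ b ≠ y⁻¹ := by decide
  obtain ⟨b, hb1, hb2, hb3⟩ := h1 (h.e hu ⟨a, hT.mem⟩)
  obtain ⟨x, hx, rfl⟩ := h.exists_e hu b
  have e1 : x * x = u := by
    have : h.e hu (⟨x, hx⟩ * ⟨x, hx⟩) = h.e hu ⟨u, h.mem u hu⟩ := by rw [map_mul, hb1, h.e_z hu]
    exact congrArg Subtype.val ((h.e hu).injective this)
  have e2 : x ≠ a := by
    rintro rfl
    exact hb2 rfl
  have e3 : x ≠ a⁻¹ := by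
    rintro rfl
    apply hb3
    rw [← map_inv]; rfl
  have h4 := hT.ne x hx e1 e2 e3
  rcases h.ia_pow hu hI hx e1 with h5 | h5
  · exact h4.1 h5
  · exact h4.2 h5

/-- an element which moves the elements of `K u` only modulo `u` acts as an inner automorphism -/
theorem ia_of_mod (hu : u ∈ Z) (hg : g * u = u * g) (hm : ∀ x ∈ K u, g * x * g⁻¹ = x ∨ g * x * g⁻¹ = x * u) :
    IA K g u := by
  have h1 : ∀ p q : QEight.Q, QEight.Ok p q → (∀ x, QEight.F p q x = x ∨ QEight.F p q x = x * QuaternionGroup.a 2) →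
      ∃ l : QEight.Q, ∀ x, QEight.F p q x = l * x * l⁻¹ := by decide
  have h2 := h1 _ _ (QEight.aut_ok (h.rho hu g hg))
  rw [← QEight.funF (h.rho hu g hg)] at h2
  obtain ⟨l, hl⟩ := h2 (by
    intro p
    obtain ⟨x, hx, rfl⟩ := h.exists_e hu p
    rw [h.rho_e hu hg hx]
    rcases hm x hx with h3 | h3
    · left; congr 1; exact Subtype.ext h3
    · right
      rw [← h.e_z hu, ← map_mul]
      congr 1
      exact Subtype.ext h3)
  obtain ⟨c, hc, rfl⟩ := h.exists_e hu l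
  refine ⟨c, hc, fun x hx => ?_⟩
  have h3 := hl (h.e hu ⟨x, hx⟩)
  rw [h.rho_e hu hg hx, ← map_inv, ← map_mul, ← map_mul] at h3
  exact congrArg Subtype.val ((h.e hu).injective h3)

theorem comm_of_norm (hu : u ∈ Z) (hg : g ∈ normalizer (K u : Set G)) : g * u = u * g := by
  have h1 : g * u * g⁻¹ ∈ K u := (mem_normalizer_iff.1 hg u).1 (h.mem u hu)
  have h2 : g * u * g⁻¹ * (g * u * g⁻¹) = 1 := by
    calc g * u * g⁻¹ * (g * u * g⁻¹) = g * (u * u) * g⁻¹ := by group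
      _ = 1 := by rw [h.sq u hu]; group
  rcases h.uniq hu h1 h2 with h3 | h3
  · exfalso
    apply h.ne u hu
    calc u = g⁻¹ * (g * u * g⁻¹) * g := by group
      _ = 1 := by rw [h3]; group
  · exact mul_inv_eq_iff_eq_mul.1 h3

theorem exists_four (hu : u ∈ Z) : ∃ y ∈ K u, y * y = u ∧ orderOf y = 4 := by
  obtain ⟨i, hi, j, hj, hii, -⟩ := h.exists_ij hu
  refine ⟨i, hi, hii, ?_⟩
  have h1 : ¬ i ^ 2 ^ 1 = 1 := by
    rw [pow_one, pow_two, hii]; exact h.ne u hu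
  have h2 : i ^ 2 ^ (1 + 1) = 1 := by
    have : i ^ 2 ^ (1 + 1) = (i * i) * (i * i) := by
      rw [show (2 : ℕ) ^ (1 + 1) = 2 + 2 from rfl, pow_add, pow_two]
    rw [this, hii, h.sq u hu]
  exact orderOf_eq_prime_pow h1 h2

/-- an N-partner of `u` gives an outer action on `K u` -/
theorem out (hu : u ∈ Z) (hx : x ∈ Z) (hn : NP K u x) : ∃ g ∈ K x, g * u = u * g ∧ ¬ IA K g u := by
  rcases h.np_cases hu hx hn with h1 | h1
  · obtain ⟨c, hc, hcc, hcu⟩ := h.ti_four h1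
    obtain ⟨y, y', h2, -⟩ := h1
    refine ⟨c, hc, hcu, fun hI => ?_⟩
    obtain ⟨b, hb, hbb, hby, hby', -, -⟩ := h.exists_inv hu h2.mem h2.sq
    have h3 := (h.ti_act hu h2 hcc hcu).2 b hb hbb hby hby'
    rcases h.ia_pow hu hI hb hbb with h4 | h4
    · exact h3.1 h4
    · exact h3.2 h4
  · obtain ⟨b, b', h2, -⟩ := h1
    exact ⟨x, h.mem x hx, hn.2.1.symm, h.not_ia_of_trn hu h2⟩

end loc

section tau

variable [Finite G] (h : W Z K)
include h

/-- **(5.1)** -/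
theorem no_swap (cS : ClS Z K) (hz : z ∈ Z) (hu : u ∈ Z) (hzu : CP K z u) (R : RR K z u) (hv : v ∈ Z)
    (hzv : CP K z v) (hs : CSw K u v) : False := by
  have hD : ∀ {w : G}, CP K z w → K w ≤ centralizer (K z : Set G) := by
    intro w hw x hx
    rw [mem_centralizer_iff]
    exact fun a ha => hw.2 a ha x hx
  obtain ⟨y, hyK, hyy, hy4⟩ := h.exists_four hu
  obtain ⟨f, hf⟩ := Cit.ROne.tau_in h.hyp ⟨u, hu, rfl⟩ (h.card8 hu) (hD hzu) hyK hy4 (by
    intro g hgD hgN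
    have hgc : Cen K g z := fun k hk => (mem_centralizer_iff.1 hgD k hk).symm
    have h1 := h.ia_pow hu (R g hgc (h.comm_of_norm hu hgN)) hyK hyy
    rw [mem_normalizer_iff_cj, cj_def, MonoidHom.map_zpowers]
    have e : (MulAut.conj g).toMonoidHom y = g * y * g⁻¹ := rfl
    rw [e]
    rcases h1 with h1 | h1
    · rw [h1]
    · rw [h1, zpowers_inv])
  have hle : K u ⊔ K v ≤ centralizer (K z : Set G) := sup_le (hD hzu) (hD hzv)
  have h1 := cS u hu v hv hs (f.comp (Subgroup.inclusion hle))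
  have h2 : K u ≤ zpowers y := by
    intro x hx
    rw [← hf x hx]
    exact h1 x hx
  have h3 := Subgroup.card_le_of_le h2
  rw [h.card8 hu, Nat.card_zpowers, hy4] at h3
  omega

/-- the orbit of `K u` under `C(s)` -/
theorem orb {s : G} (an : AN Z K s) (hu : u ∈ Z) (hs : Cen K s u) :
    Cit.ROne.Orb (K '' Z) (centralizer {s}) (NC s u) {L | ∃ g ∈ centralizer ({s} : Set G), cj g (K u) = L} := by
  have e : NC s u = closure (zz '' {L | ∃ g ∈ centralizer ({s} : Set G), cj g (K u) = L}) := by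
    unfold NC
    congr 1
    ext x
    constructor
    · rintro ⟨g, hg, rfl⟩
      refine ⟨cj g (K u), ⟨g, mem_centralizer_singleton_iff.2 hg, rfl⟩, ?_⟩
      rw [h.hyp.zz_cj ⟨u, hu, rfl⟩, h.zz_K hu]
    · rintro ⟨_, ⟨g, hg, rfl⟩, rfl⟩
      refine ⟨g, mem_centralizer_singleton_iff.1 hg, ?_⟩
      rw [h.hyp.zz_cj ⟨u, hu, rfl⟩, h.zz_K hu]
  rw [e]
  refine Cit.ROne.Orb.of_orbit h.hyp ?_ ⟨u, hu, rfl⟩ ?_ ?_
  · rintro _ ⟨w, hw, rfl⟩
    exact h.two hw
  · intro x hx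
    rw [mem_centralizer_singleton_iff]
    exact (hs x hx).symm
  · rw [← e]
    exact NC_two an ⟨hu, hs⟩

/-- (2.4) -/
theorem mem_NC_or {s : G} (an : AN Z K s) (hu : u ∈ Z) (hs : Cen K s u) (hx : x ∈ Z) (hsx : Cen K s x) :
    x ∈ NC s u ∨ ∀ n ∈ NC s u, Cen K n x := by
  by_cases hxN : x ∈ NC s u
  · exact Or.inl hxN
  right
  have o := h.orb an hu hs
  have hKx : K x ≤ normalizer (NC s u : Set G) := by
    refine le_trans ?_ o.norm
    intro a ha
    rw [mem_centralizer_singleton_iff]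
    exact (hsx a ha).symm
  intro n hn k hk
  exact (h.hyp.lemma_one ⟨x, hx, rfl⟩ (h.two hx) o.pN hKx (by rw [h.zz_K hx]; exact hxN) k hk n hn).symm

/-- **(5.1)** : the C-partners of `z` commute with `u` -/
theorem comm_of_RR (cS : ClS Z K) (an : AN Z K z) (hz : z ∈ Z) (hu : u ∈ Z) (hzu : CP K z u) (R : RR K z u)
    (hx : x ∈ Z) (hzx : CP K z x) : x * u = u * x := by
  have hcen : ∀ {w}, CP K z w → Cen K z w := fun hw k hk => hw.2 z (h.mem z hz) k hk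
  have o := h.orb an hu (hcen hzu)
  have hKY : K u ∈ {L | ∃ g ∈ centralizer ({z} : Set G), cj g (K u) = L} := ⟨1, one_mem _, cj_one _⟩
  have huN : u ∈ NC z u := self_mem_NC
  rcases h.mem_NC_or an hu (hcen hzu) hx (hcen hzx) with hxN | hxN
  swap
  · exact (hxN u huN x (h.mem x hx)).symm
  by_cases hnc : ∀ x ∈ NC z u, ∀ y ∈ NC z u, x * y = y * x
  · exact hnc x hxN u huN
  · exfalso
    obtain ⟨L, hL, hne⟩ : ∃ L ∈ {L | ∃ g ∈ centralizer ({z} : Set G), cj g (K u) = L},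
        ¬ zz (K u) * zz L = zz L * zz (K u) := by
      by_contra hcon
      push Not at hcon
      exact o.zz_not_central hnc hKY (o.comm_of_zz hcon)
    obtain ⟨g, hg, rfl⟩ := hL
    rw [mem_centralizer_singleton_iff] at hg
    rw [h.hyp.zz_cj ⟨u, hu, rfl⟩, h.zz_K hu] at hne
    set x' := g * u * g⁻¹ with hx'
    have hx'Z : x' ∈ Z := h.conjZ u hu g
    have hx'N : x' ∈ NC z u := conj_mem_NC hg
    have hne' : u ≠ x' * u * x'⁻¹ := by
      intro e
      apply hne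
      calc u * x' = x' * u * x'⁻¹ * x' := by rw [← e]
        _ = x' * u := by group
    have hKne : K u ≠ cj x' (K u) := by
      intro e
      apply hne'
      have := congrArg zz e
      rwa [h.hyp.zz_cj ⟨u, hu, rfl⟩, h.zz_K hu] at this
    have hcs : CSw K u x' := by
      refine ⟨hne', ?_⟩
      rw [h.conjK u hu]
      exact o.comm_cj hnc hKY hx'N hKne
    have hzx' : CP K z x' := by
      have := h.cp_conj hz hu hzu g
      rwa [hg, mul_inv_cancel_right] at this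
    exact h.no_swap cS hz hu hzu R hx'Z hzx' hcs

/-- **(5.2)** -/
theorem CP_of_RR (cS : ClS Z K) (an : AN Z K z) (hz : z ∈ Z) (hu : u ∈ Z) (hzu : CP K z u) (R : RR K z u)
    (hx : x ∈ Z) (hzx : CP K z x) (hxu : x ≠ u) : CP K u x := by
  have hc := h.comm_of_RR cS an hz hu hzu R hx hzx
  by_contra hn
  obtain ⟨g, hg, hgu, hgn⟩ := h.out hu hx ⟨hxu.symm, hc.symm, hn⟩
  exact hgn (R g (fun k hk => (hzx.2 k hk g hg).symm) hgu)

/-- **(5.2)** : `(R)(z,u)` implies `c[z] = c[u]` -/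
theorem cl_eq_of_RR (cS : ClS Z K) (hone : OneCls Z) (an : AN Z K z) (hz : z ∈ Z) (hu : u ∈ Z) (hzu : CP K z u)
    (R : RR K z u) : cl Z K z = cl Z K u := by
  have h1 : cl Z K z ⊆ cl Z K u := by
    rintro x ⟨hx, h1 | h1⟩
    · refine ⟨hx, Or.inr ?_⟩
      rw [h1]; exact hzu.symm
    · by_cases h2 : x = u
      · exact ⟨hx, Or.inl h2⟩
      · exact ⟨hx, Or.inr (h.CP_of_RR cS an hz hu hzu R hx h1 h2)⟩
  refine Set.eq_of_subset_of_ncard_le h1 ?_ (Set.toFinite _)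
  obtain ⟨g, hg⟩ := hone z hz u hu
  have h2 : cl Z K u = (fun x => g * x * g⁻¹) '' cl Z K z := by
    rw [← hg]
    ext y
    constructor
    · intro hy
      refine ⟨g⁻¹ * y * g, ?_, by group⟩
      rw [← h.mem_cl_conj hz g]
      have e : g * (g⁻¹ * y * g) * g⁻¹ = y := by group
      rw [e]; exact hy
    · rintro ⟨x, hx, rfl⟩
      exact (h.mem_cl_conj hz g).2 hx
  rw [h2]
  exact Set.ncard_image_le (Set.toFinite _)

/-- **(5.3)** : `(R)(z,u)` implies `u ∈ [z]` -/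
theorem tw_of_RR (cS : ClS Z K) (hone : OneCls Z) (an : AN Z K z) (hz : z ∈ Z) (hu : u ∈ Z) (hzu : CP K z u)
    (R : RR K z u) : Tw Z K z u := ⟨hu, h.cl_eq_of_RR cS hone an hz hu hzu R⟩

/-- **(2.3)** : the elements of `C_N(y)` act on `K y` as inner automorphisms (`N = ⟨u ^ C(s)⟩`, `y ∈ u ^ C(s)`) -/
theorem ia_of_NC {s : G} (an : AN Z K s) (hu : u ∈ Z) (hs : Cen K s u) (hg : g * s = s * g) {n : G}
    (hn : n ∈ NC s u) (hc : n * (g * u * g⁻¹) = g * u * g⁻¹ * n) : IA K n (g * u * g⁻¹) := by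
  have o := h.orb an hu hs
  have hY : K (g * u * g⁻¹) ∈ {L | ∃ g ∈ centralizer ({s} : Set G), cj g (K u) = L} :=
    ⟨g, mem_centralizer_singleton_iff.2 hg, (h.conjK u hu g).symm⟩
  have hyZ := h.conjZ u hu g
  refine h.ia_of_mod hyZ hc fun x hx => ?_
  have h1 : n * x * n⁻¹ * x⁻¹ ∈ K (g * u * g⁻¹) := mul_mem (h.norm_mem hyZ hc hx) (inv_mem hx)
  have h2 : n * x * n⁻¹ * x⁻¹ ∈ NC s u := by
    have h3 := (mem_normalizer_iff.1 (o.normK hY hx) n⁻¹).1 (inv_mem hn)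
    have e : n * x * n⁻¹ * x⁻¹ = n * (x * n⁻¹ * x⁻¹) := by group
    rw [e]
    exact mul_mem hn h3
  rcases o.mem_inf hY h1 h2 with h3 | h3
  · exact Or.inl (mul_inv_eq_one.1 h3)
  · right
    rw [h.zz_K hyZ] at h3
    rw [mul_inv_eq_iff_eq_mul.1 h3, h.cent hyZ hx]

/-- **(5.5)** -/
theorem RR_of_swap (hu : u ∈ Z) (hv : v ∈ Z) (hs : CSw K u v) (an : AN Z K (wt u v)) (hvN : v ∈ NC (wt u v) u) :
    RR K u (v * u * v⁻¹) := by
  have hu' := h.conjZ u hu v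
  have hcu : Cen K u u := fun k hk => (h.cent hu hk).symm
  have hcu' : Cen K (v * u * v⁻¹) u := h.cen_of_cp hu' hs
  have hw : Cen K (wt u v) u := hcu.mul hcu'
  have hvw : v * wt u v = wt u v * v :=
    mem_centralizer_singleton_iff.1 (NC_le (hw u (h.mem u hu)).symm hvN)
  intro g hg hgu'
  have hgw : g * wt u v = wt u v * g := by
    have h1 := hg u (h.mem u hu)
    unfold wt
    rw [← mul_assoc, h1, mul_assoc, hgu', ← mul_assoc]
  -- `g` acts on `K u'` as `n`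
  obtain ⟨n, hn⟩ : ∃ n, n = g * v * g⁻¹ * v⁻¹ := ⟨_, rfl⟩
  have hnN : n ∈ NC (wt u v) u := by
    rw [hn]
    exact mul_mem (mem_NC_conj hgw hvN) (inv_mem hvN)
  have hact : ∀ x ∈ K (v * u * v⁻¹), g * x * g⁻¹ = n * x * n⁻¹ := by
    intro x hx
    have h1 := hg _ ((h.mem_K_conj hu v).1 hx)
    have h2 : g * (v⁻¹ * x * v) * g⁻¹ = v⁻¹ * x * v := by rw [h1, mul_inv_cancel_right]
    symm
    calc n * x * n⁻¹ = g * v * g⁻¹ * (v⁻¹ * x * v) * (g * v * g⁻¹)⁻¹ := by rw [hn]; group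
      _ = g * v * g⁻¹ * (g * (v⁻¹ * x * v) * g⁻¹) * (g * v * g⁻¹)⁻¹ := by rw [h2]
      _ = g * x * g⁻¹ := by group
  have hnc : n * (v * u * v⁻¹) = v * u * v⁻¹ * n := by
    have h1 := hact _ (h.mem _ hu')
    rw [hgu', mul_inv_cancel_right] at h1
    exact (eq_mul_inv_iff_mul_eq.1 h1).symm
  obtain ⟨l, hl, hl'⟩ := h.ia_of_NC an hu hw hvw hnN hnc
  exact ⟨l, hl, fun x hx => (hact x hx).trans (hl' x hx)⟩

/-- **(5.5)** : `u' = v u v⁻¹ ∈ [u]` for a C-swap `(u, v)` -/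
theorem tw_of_swap (cS : ClS Z K) (hone : OneCls Z) (hu : u ∈ Z) (hv : v ∈ Z) (hs : CSw K u v) (anu : AN Z K u)
    (an : AN Z K (wt u v)) (hvN : v ∈ NC (wt u v) u) : Tw Z K u (v * u * v⁻¹) :=
  h.tw_of_RR cS hone anu hu (h.conjZ u hu v) hs (h.RR_of_swap hu hv hs an hvN)

end tau

end W

end Cfsg.Agent.Cit.Nil.ROne
end
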